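import Groth.Agent.Lib.FlatDepth.FormalCM
import Groth.Agent.Lib.Depth.CM
import Groth.Prelude.Def_EGA4b

/-!
# Completions of quotient domains of supports of Cohen-Macaulay modules
-/

set_option autoImplicit false
universe u

open TensorProduct IsLocalRing

namespace Groth.Agent.FSC5

open Groth.Agent

variable {A : Type u} [CommRing A] [IsNoetherianRing A] [IsLocalRing A]

omit [IsNoetherianRing A] [IsLocalRing A] in
theorem dim_quotient_eq_coheight (p : PrimeSpectrum A) :
    ringKrullDim (A ⧸ p.asIdeal) = (Order.coheight p : WithBot ℕ∞) := by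
  rw [ringKrullDim_quotient, Order.coheight_eq_krullDim_Ici]
  exact Order.krullDim_eq_of_orderIso (OrderIso.setCongr _ _ (Set.ext fun q => Iff.rfl))

theorem eq_of_le_of_dim (p q : PrimeSpectrum A) (h : p ≤ q)
    (hd : ringKrullDim (A ⧸ p.asIdeal) ≤ ringKrullDim (A ⧸ q.asIdeal)) : p = q := by
  by_contra hne
  rw [dim_quotient_eq_coheight, dim_quotient_eq_coheight, WithBot.coe_le_coe] at hd
  refine (Order.coheight_strictAnti (lt_of_le_of_ne h hne) ?_).not_ge hd
  refine WithBot.coe_lt_coe.1 ?_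
  rw [← dim_quotient_eq_coheight]
  obtain ⟨r, hr⟩ := DepthLib.exists_ringKrullDim_quotient_eq_natCast q.asIdeal q.isPrime.ne_top
  rw [hr]
  exact WithBot.coe_lt_coe.2 (ENat.natCast_lt_top r)

/-- Some CM module has `p` as an associated prime, when `p` is in the support of one. -/
theorem exists_cm_ass (p : PrimeSpectrum A) : ∀ (d : ℕ) (N : Type u) [AddCommGroup N] [Module A N] [Module.Finite A N],
    Module.supportDim A N ≤ d → LocCoh.IsCohenMacaulayModule A N → p ∈ Module.support A N →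
    ∃ (N' : Type u) (_ : AddCommGroup N') (_ : Module A N') (_ : Module.Finite A N'),
      LocCoh.IsCohenMacaulayModule A N' ∧ p.asIdeal ∈ associatedPrimes A N' := by
  intro d
  induction d using Nat.strong_induction_on with
  | _ d ih =>
    intro N _ _ _ hd hN hp
    by_cases hex : ∃ x ∈ p.asIdeal, IsSMulRegular N x
    · obtain ⟨x, hx, hreg⟩ := hex
      have hxm : x ∈ maximalIdeal A := le_maximalIdeal p.isPrime.ne_top hx
      haveI := DepthLib.nontrivial_of_isCohenMacaulayModule hN
      have hN' := (DepthLib.isCohenMacaulayModule_quotSMulTop_iff hxm hreg).2 hN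
      have hp' : p ∈ Module.support A (QuotSMulTop x N) := by
        rw [Module.support_quotSMulTop]
        exact ⟨hp, by simpa using hx⟩
      haveI := DepthLib.nontrivial_of_isCohenMacaulayModule hN'
      obtain ⟨e, he⟩ := DepthLib.exists_supportDim_eq_natCast (R := A) (M := QuotSMulTop x N)
      have h1 : ((e + 1 : ℕ) : WithBot ℕ∞) ≤ d := by
        rw [Nat.cast_add, Nat.cast_one, ← he, Module.supportDim_quotSMulTop_succ_eq_supportDim hreg hxm]
        exact hd
      exact ih e (by exact_mod_cast h1) (QuotSMulTop x N) he.le hN' hp'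
    · push Not at hex
      obtain ⟨P, hP, hle⟩ := DepthLib.exists_associatedPrime_ge hex
      haveI := hP.isPrime
      have : p = ⟨P, inferInstance⟩ := eq_of_le_of_dim p ⟨P, inferInstance⟩ hle
        ((DepthLib.ringKrullDim_quotient_le_supportDim hp).trans_eq
          (DepthLib.ringKrullDim_quotient_eq_of_mem_associatedPrimes hN hP).symm)
      exact ⟨N, inferInstance, inferInstance, inferInstance, hN, this ▸ hP⟩

theorem cm_completion' (M : Type u) [AddCommGroup M] [Module A M] [Module.Finite A M]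
    (hCM : LocCoh.IsCohenMacaulayModule A M) :
    LocCoh.IsCohenMacaulayModule (EGA4.Cpl A) (EGA4.Cpl A ⊗[A] M) ∧
      Module.supportDim (EGA4.Cpl A) (EGA4.Cpl A ⊗[A] M) = Module.supportDim A M := by
  haveI := CplLocH7.isNoetherianRing_cpl A
  haveI := CplLocH7.faithfullyFlat_cpl A
  haveI := DepthLib.nontrivial_of_isCohenMacaulayModule hCM
  let k := EGA4.Cpl A ⊗[A] (A ⧸ maximalIdeal A)
  let e : k ≃ₗ[EGA4.Cpl A] EGA4.Cpl A ⧸ maximalIdeal (EGA4.Cpl A) :=
    (FlatDepth.tensorQuotEquiv (EGA4.Cpl A) (maximalIdeal A)).trans (Submodule.quotEquivOfEq _ _ (by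
      rw [Ideal.smul_eq_mul, Ideal.mul_top, CplLocH7.maximalIdeal_cpl]))
  have hdim : Module.supportDim (EGA4.Cpl A) k = 0 := by
    rw [Module.supportDim_eq_of_equiv e, Module.supportDim_quotient_eq_ringKrullDim]
    letI : Field (EGA4.Cpl A ⧸ maximalIdeal (EGA4.Cpl A)) := Ideal.Quotient.field _
    exact ringKrullDim_eq_zero_of_field _
  haveI : Nontrivial k := e.toEquiv.nontrivial
  have hdep : LocCoh.depth (EGA4.Cpl A) k = 0 :=
    nonpos_iff_eq_zero.1 (WithBot.coe_le_coe.1 (DepthLib.depth_le_supportDim.trans hdim.le))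
  constructor
  · show _ = _
    rw [FlatDepth.supportDim_tensor, FlatDepth.depth_tensor, hdim, hdep, add_zero, add_zero]
    exact hCM
  · rw [FlatDepth.supportDim_tensor, hdim, add_zero]

/-- The completion of `A ⧸ p` is strictly equidimensional when `p` is in the support of a CM module. -/
theorem isStrictlyEquidim_cpl (N : Type u) [AddCommGroup N] [Module A N] [Module.Finite A N]
    (hN : LocCoh.IsCohenMacaulayModule A N) (p : Ideal A) [p.IsPrime]
    (hp : (⟨p, inferInstance⟩ : PrimeSpectrum A) ∈ Module.support A N) :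
    EGA4.IsStrictlyEquidim (EGA4.Cpl (A ⧸ p)) := by
  haveI := DepthLib.nontrivial_of_isCohenMacaulayModule hN
  obtain ⟨d, hd⟩ := DepthLib.exists_supportDim_eq_natCast (R := A) (M := N)
  obtain ⟨N', _, _, _, hN', hass⟩ := exists_cm_ass ⟨p, inferInstance⟩ d N hd.le hN hp
  haveI := CplLocH7.isNoetherianRing_cpl A
  haveI := CplLocH7.faithfullyFlat_cpl A
  obtain ⟨h1, h2⟩ := cm_completion' N' hN'
  obtain ⟨-, f, hf⟩ := (isAssociatedPrime_iff_exists_injective_linearMap p N').1 hass
  have hs : Function.Surjective (algebraMap A (A ⧸ p)) := Ideal.Quotient.mk_surjective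
  let π := FlatDepth.cplQuotHom A (A ⧸ p) hs
  have hπ : Function.Surjective π := FlatDepth.cplQuotHom_surjective A (A ⧸ p) hs
  haveI : IsNoetherianRing (EGA4.Cpl (A ⧸ p)) := CplLocH7.isNoetherianRing_cpl (A ⧸ p)
  intro Q hQ
  haveI := hQ.isPrime
  obtain ⟨-, b, hb⟩ := isAssociatedPrime_iff.1 hQ
  obtain ⟨b₀, rfl⟩ := hπ b
  have hker : RingHom.ker π = p.map (algebraMap A (EGA4.Cpl A)) := by
    rw [FlatDepth.ker_cplQuotHom A (A ⧸ p) hs]
    congr 1
    exact Ideal.mk_ker
  have hQ' : Q.comap π ∈ associatedPrimes (EGA4.Cpl A) (EGA4.Cpl A ⧸ p.map (algebraMap A (EGA4.Cpl A))) := by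
    refine isAssociatedPrime_iff.2 ⟨inferInstance, Ideal.Quotient.mk _ b₀, Ideal.ext fun c => ?_⟩
    rw [Ideal.mem_comap, hb, Submodule.mem_colon_singleton, Submodule.mem_colon_singleton, Submodule.mem_bot,
      Submodule.mem_bot, smul_eq_mul, ← map_mul, ← RingHom.mem_ker, hker]
    exact (Ideal.Quotient.eq_zero_iff_mem (I := p.map (algebraMap A (EGA4.Cpl A))) (a := c * b₀)).symm
  let e : (EGA4.Cpl A ⊗[A] (A ⧸ p)) ≃ₗ[EGA4.Cpl A] EGA4.Cpl A ⧸ p.map (algebraMap A (EGA4.Cpl A)) :=
    (FlatDepth.tensorQuotEquiv (EGA4.Cpl A) p).trans (Submodule.quotEquivOfEq _ _ (by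
      rw [Ideal.smul_eq_mul, Ideal.mul_top]))
  let F : EGA4.Cpl A ⧸ p.map (algebraMap A (EGA4.Cpl A)) →ₗ[EGA4.Cpl A] EGA4.Cpl A ⊗[A] N' :=
    (f.baseChange (EGA4.Cpl A)).comp e.symm.toLinearMap
  have hF : Function.Injective F := (Module.Flat.lTensor_preserves_injective_linearMap f hf).comp e.symm.injective
  have hQN : Q.comap π ∈ associatedPrimes (EGA4.Cpl A) (EGA4.Cpl A ⊗[A] N') :=
    associatedPrimes.subset_of_injective hF hQ'
  have e1 : ringKrullDim (EGA4.Cpl (A ⧸ p) ⧸ Q) = ringKrullDim (EGA4.Cpl A ⧸ Q.comap π) :=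
    ringKrullDim_eq_of_ringEquiv ((RingHom.quotientKerEquivOfSurjective
      (f := (Ideal.Quotient.mk Q).comp π) (Ideal.Quotient.mk_surjective.comp hπ)).symm.trans
      (Ideal.quotEquivOfEq (by rw [← RingHom.comap_ker, Ideal.mk_ker])))
  rw [e1, DepthLib.ringKrullDim_quotient_eq_of_mem_associatedPrimes h1 hQN, h2,
    ← DepthLib.ringKrullDim_quotient_eq_of_mem_associatedPrimes hN' hass,
    show ringKrullDim (EGA4.Cpl (A ⧸ p)) = ringKrullDim (A ⧸ p) from Compl.ringKrullDim_maximalIdeal_adicCompletion _]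

/-- A local domain of dimension at most one is Cohen-Macaulay. -/
theorem isCohenMacaulayModule_quotient_of_dim_le_one (p : Ideal A) [p.IsPrime]
    (h : ringKrullDim (A ⧸ p) ≤ 1) : LocCoh.IsCohenMacaulayModule A (A ⧸ p) := by
  haveI : Nontrivial (A ⧸ p) := Ideal.Quotient.nontrivial_iff.2 (Ideal.IsPrime.ne_top inferInstance)
  show _ = _
  refine le_antisymm ?_ DepthLib.depth_le_supportDim
  rw [Module.supportDim_quotient_eq_ringKrullDim]
  by_cases hm : p = maximalIdeal A
  · subst hm
    letI : Field (A ⧸ maximalIdeal A) := Ideal.Quotient.field _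
    rw [ringKrullDim_eq_zero_of_field]
    exact WithBot.coe_le_coe.2 bot_le
  · refine h.trans ?_
    obtain ⟨a, ham, hap⟩ := SetLike.not_le_iff_exists.1 fun hle : maximalIdeal A ≤ p =>
      hm (((maximalIdeal.isMaximal A).eq_of_le (Ideal.IsPrime.ne_top inferInstance) hle).symm)
    refine WithBot.coe_le_coe.2 (DepthLib.one_le_idealDepth_of_regular ham ?_)
    refine IsSMulRegular.of_right_eq_zero_of_smul fun z hz => ?_
    obtain ⟨z, rfl⟩ := Submodule.Quotient.mk_surjective _ z
    rw [← Submodule.Quotient.mk_smul, Submodule.Quotient.mk_eq_zero] at hz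
    exact (Submodule.Quotient.mk_eq_zero _).2 ((Ideal.IsPrime.mem_or_mem inferInstance hz).resolve_left hap)

end Groth.Agent.FSC5
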