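import Groth.Agent.Lib.DimEqScheme4

/-!
# The dimension formula for algebras essentially of finite type
-/

set_option autoImplicit false
universe u

namespace Groth.Agent.FSC5

open Groth.Agent DimFormula14

variable (R : Type u) [CommRing R] [IsDomain R] (S : Type u) [CommRing S] [IsDomain S] [Algebra R S]
  [FaithfulSMul R S] [Algebra.EssFiniteType R S]

theorem tr_ne_top_ess : tr R S ≠ ⊤ := by
  let F := Algebra.EssFiniteType.subalgebra R S
  haveI : FaithfulSMul F S := (faithfulSMul_iff_algebraMap_injective F S).2 Subtype.val_injective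
  haveI : FaithfulSMul R F := (faithfulSMul_iff_algebraMap_injective R F).2 fun a b h =>
    FaithfulSMul.algebraMap_injective R S (congrArg Subtype.val h)
  haveI : Algebra.IsAlgebraic F S := IsLocalization.isAlgebraic S (Algebra.EssFiniteType.submonoid R S)
  rw [show tr R S = tr R F from DimEqScheme4.tr_congr.symm]
  exact (Cardinal.toENat_lt_top.2 trdeg_lt_aleph0_of_finiteType).ne

variable {R S}

theorem height_add_tr_eq_ess (hR : CAlg.IsUniversallyCatenary R) (p : Ideal R) [p.IsPrime] (q : Ideal S) [q.IsPrime]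
    [q.LiesOver p] : q.height + tr (R ⧸ p) (S ⧸ q) = p.height + tr R S := by
  haveI := hR.1
  let F := Algebra.EssFiniteType.subalgebra R S
  let M := Algebra.EssFiniteType.submonoid R S
  haveI : FaithfulSMul F S := (faithfulSMul_iff_algebraMap_injective F S).2 Subtype.val_injective
  haveI : FaithfulSMul R F := (faithfulSMul_iff_algebraMap_injective R F).2 fun a b h =>
    FaithfulSMul.algebraMap_injective R S (congrArg Subtype.val h)
  haveI : Algebra.IsAlgebraic F S := IsLocalization.isAlgebraic S M
  let q₀ := q.under F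
  haveI : q.LiesOver q₀ := ⟨rfl⟩
  haveI : q₀.LiesOver p := ⟨(Ideal.LiesOver.over (P := q) (p := p)).trans (Ideal.under_under q).symm⟩
  have hd : Disjoint (M : Set F) q₀ := ((IsLocalization.isPrime_iff_isPrime_disjoint M S q).1 inferInstance).2
  have key := UCat26.height_add_tr_eq R hR F p q₀
  haveI : Algebra.IsAlgebraic (F ⧸ q₀) (S ⧸ q) := DimEqScheme4.isAlgebraic_quotient M q₀ hd q
  haveI := faithfulSMul_quotient p q₀
  haveI := faithfulSMul_quotient q₀ q
  haveI := faithfulSMul_quotient p q
  haveI : IsScalarTower (R ⧸ p) (F ⧸ q₀) (S ⧸ q) := IsScalarTower.of_algebraMap_eq fun z => by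
    obtain ⟨a, rfl⟩ := Ideal.Quotient.mk_surjective z
    rfl
  haveI : Algebra.IsAlgebraic (R ⧸ p) (R ⧸ p) := inferInstance
  have e1 : tr R S = tr R F := DimEqScheme4.tr_congr.symm
  have e2 : tr (R ⧸ p) (S ⧸ q) = tr (R ⧸ p) (F ⧸ q₀) := DimEqScheme4.tr_congr.symm
  rw [e1, e2, ← IsLocalization.height_under M q]
  exact key

end Groth.Agent.FSC5
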