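import Groth.Agent.Lib.QuadH13.McCoy
import Mathlib.RingTheory.TensorProduct.MvPolynomial
import Mathlib.RingTheory.AlgebraicIndependent.TranscendenceBasis
import Mathlib.RingTheory.Ideal.AssociatedPrime.Localization
import Mathlib.RingTheory.Ideal.AssociatedPrime.Finiteness
import Mathlib.RingTheory.Flat.Localization

/-!
# Associated primes of a flat base change of a domain are as transcendental as the generic fibre
-/

set_option autoImplicit false
universe u

open TensorProduct MvPolynomial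

namespace Groth.Agent.FSC5

open Groth.Agent

/-- McCoy: a zero divisor has all its coefficients killed by one nonzero scalar. -/
theorem exists_coeff_mul_eq_zero {R : Type u} [CommRing R] {σ : Type u} (z w : MvPolynomial σ R) (hw : w ≠ 0)
    (h : w * z = 0) : ∃ c : R, c ≠ 0 ∧ ∀ d, coeff d z * c = 0 := by
  classical
  letI : LinearOrder σ := linearOrderOfSTO WellOrderingRel
  haveI : WellFoundedLT σ := ⟨(WellOrderingRel.isWellOrder (α := σ)).wf⟩
  let m : MonomialOrder σᵒᵈ := MonomialOrder.lex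
  let e := renameEquiv R (OrderDual.toDual : σ ≃ σᵒᵈ)
  obtain ⟨g, ⟨hg0, hg⟩, hmin⟩ :=
    (InvImage.wf (fun g : MvPolynomial σᵒᵈ R ↦ m.toSyn (m.degree g)) wellFounded_lt).has_min
      {g : MvPolynomial σᵒᵈ R | g ≠ 0 ∧ ∀ _ : Unit, g * e z = 0}
      ⟨e w, (e.map_ne_zero_iff).2 hw, fun _ => by rw [← map_mul, h, map_zero]⟩
  have hker := QuadH13.smul_eq_zero_of_annihilates m (fun _ : Unit => e z) g hg fun f' hf' hlt ↦ by
    by_contra h0
    exact hmin f' ⟨h0, hf'⟩ hlt
  obtain ⟨d₀, hd₀⟩ := MvPolynomial.ne_zero_iff.1 hg0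
  refine ⟨coeff d₀ g, hd₀, fun d => ?_⟩
  have h1 := congrArg (coeff d₀) (hker () (Finsupp.mapDomain OrderDual.toDual d))
  rw [coeff_smul, coeff_zero, smul_eq_mul] at h1
  rwa [show coeff (Finsupp.mapDomain OrderDual.toDual d) (e z) = coeff d z from
    coeff_rename_mapDomain _ (OrderDual.toDual : σ ≃ σᵒᵈ).injective z d] at h1

section

variable {A : Type u} [CommRing A] [IsDomain A] (T : Type u) [CommRing T] [Algebra A T] [Module.Flat A T]
  {D : Type u} [CommRing D] [IsDomain D] [Algebra A D] {ι : Type u} (t : ι → D)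
  (ht : AlgebraicIndependent A t)
include ht

/-- An element of `T[X]` mapped into an associated prime of `T ⊗ D` is a zero divisor. -/
theorem exists_coeff_mul_eq_zero_of_mem (r : Ideal (T ⊗[A] D)) (hr : r ∈ associatedPrimes (T ⊗[A] D) (T ⊗[A] D))
    [IsNoetherianRing (T ⊗[A] D)] (z : MvPolynomial ι T)
    (hz : aeval (fun i => (1 : T) ⊗ₜ[A] t i) z ∈ r) : ∃ c : T, c ≠ 0 ∧ ∀ d, coeff d z * c = 0 := by
  let L := FractionRing D
  let P := MvPolynomial ι A
  let K := FractionRing P
  let PT := MvPolynomial ι T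
  obtain ⟨-, x, hx⟩ := isAssociatedPrime_iff.1 hr
  let j : T ⊗[A] D →ₐ[T] T ⊗[A] L := Algebra.TensorProduct.map (AlgHom.id T T) (IsScalarTower.toAlgHom A D L)
  have hj : Function.Injective j :=
    Module.Flat.lTensor_preserves_injective_linearMap (IsScalarTower.toAlgHom A D L).toLinearMap
      (IsFractionRing.injective D L)
  have hx0 : x ≠ 0 := fun h => hr.isPrime.ne_top (hx.trans (eq_top_iff.2 fun r _ => by
    rw [Submodule.mem_colon_singleton, h, smul_zero]; exact Submodule.zero_mem _))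
  have hzx : aeval (fun i => (1 : T) ⊗ₜ[A] t i) z * x = 0 := by
    have := (Ideal.ext_iff.1 hx _).1 hz
    rwa [Submodule.mem_colon_singleton, Submodule.mem_bot, smul_eq_mul] at this
  letI algPL : Algebra P L := (aeval fun i => algebraMap D L (t i)).toRingHom.toAlgebra
  have hPL : Function.Injective (algebraMap P L) :=
    AlgebraicIndependent.map' (x := t) ht (f := IsScalarTower.toAlgHom A D L) (IsFractionRing.injective D L)
  haveI : IsScalarTower A P L := IsScalarTower.of_algebraMap_eq fun a => ((aeval _).commutes a).symm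
  letI algKL : Algebra K L := (IsFractionRing.lift (A := P) (g := algebraMap P L) hPL).toAlgebra
  haveI : IsScalarTower P K L := IsScalarTower.of_algebraMap_eq fun p => (IsFractionRing.lift_algebraMap hPL p).symm
  haveI : Module.Flat P K := IsLocalization.flat K (nonZeroDivisors P)
  haveI : Module.Flat P L := Module.Flat.trans P K L
  letI : Algebra P PT := MvPolynomial.algebraMvPolynomial
  haveI : IsScalarTower A P PT := IsScalarTower.of_algebraMap_eq fun a => (MvPolynomial.map_C (algebraMap A T) a).symm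
  haveI : Algebra.IsPushout A T P PT := inferInstance
  let e : PT ⊗[P] L ≃ₐ[T] T ⊗[A] L := Algebra.IsPushout.cancelBaseChangeAlg A T P PT L
  let g : PT →ₐ[T] T ⊗[A] L :=
    e.toAlgHom.comp ((Algebra.TensorProduct.includeLeft : PT →ₐ[PT] PT ⊗[P] L).restrictScalars T)
  have hgX : g = j.comp (aeval fun i => (1 : T) ⊗ₜ[A] t i) := by
    refine MvPolynomial.algHom_ext fun i => ?_
    show e ((X i : PT) ⊗ₜ[P] (1 : L)) = j (aeval (fun i => (1 : T) ⊗ₜ[A] t i) (X i))
    rw [aeval_X, show (X i : PT) = algebraMap P PT (X i) from (map_X (algebraMap A T) i).symm,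
      Algebra.algebraMap_eq_smul_one, smul_tmul, Algebra.smul_def, mul_one,
      show algebraMap P L (X i) = algebraMap D L (t i) from aeval_X _ i]
    show _ = (1 : T) ⊗ₜ[A] algebraMap D L (t i)
    exact Algebra.IsPushout.cancelBaseChangeAlg_tmul A T P PT L _
  by_contra hc
  push Not at hc
  have hreg : IsSMulRegular PT z := IsSMulRegular.of_right_eq_zero_of_smul fun w hw => by
    by_contra hw0
    obtain ⟨c, hc0, hcz⟩ := exists_coeff_mul_eq_zero z w hw0 (by rwa [mul_comm])
    obtain ⟨d, hd⟩ := hc c hc0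
    exact hd (hcz d)
  have h1 : (algebraMap PT (PT ⊗[P] L) z) * e.symm (j x) = 0 := by
    refine e.injective ?_
    rw [map_mul, e.apply_symm_apply, map_zero]
    show g z * j x = 0
    rw [hgX]
    show j _ * j x = 0
    exact (map_mul j _ _).symm.trans ((congrArg j hzx).trans (map_zero j))
  have h2 : IsSMulRegular (PT ⊗[P] L) (algebraMap PT (PT ⊗[P] L) z) := hreg.of_flat
  have h3 : e.symm (j x) = 0 := h2
    (show algebraMap PT (PT ⊗[P] L) z * e.symm (j x) = algebraMap PT (PT ⊗[P] L) z * 0 by rw [h1, mul_zero])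
  exact hx0 (hj (by rw [map_zero, ← e.apply_symm_apply (j x), h3, map_zero]))

end

section

variable {A : Type u} [CommRing A] [IsDomain A] {T : Type u} [CommRing T] [IsNoetherianRing T] [Algebra A T]
  [Module.Flat A T] {D : Type u} [CommRing D] [IsDomain D] [Algebra A D] [FaithfulSMul A D]
  [IsNoetherianRing (T ⊗[A] D)] (r : Ideal (T ⊗[A] D)) (hr : r ∈ associatedPrimes (T ⊗[A] D) (T ⊗[A] D))
  (hT : ∀ p ∈ associatedPrimes T T, p ∈ minimalPrimes T)
include hr hT

/-- The trace of an associated prime is associated. -/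
theorem comap_mem_associatedPrimes : r.comap (algebraMap T (T ⊗[A] D)) ∈ associatedPrimes T T := by
  haveI := hr.isPrime
  let t : PEmpty.{u+1} → D := fun i => i.elim
  have ht : AlgebraicIndependent A t :=
    algebraicIndependent_empty_type_iff.2 (FaithfulSMul.algebraMap_injective A D)
  have hzd : (↑(r.comap (algebraMap T (T ⊗[A] D))) : Set T) ⊆ ⋃ p ∈ associatedPrimes T T, (p : Set T) := by
    intro a ha
    obtain ⟨c, hc0, hc⟩ := exists_coeff_mul_eq_zero_of_mem T t ht r hr (C a) (by rw [aeval_C]; exact ha)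
    have h := hc 0
    rw [coeff_zero_C] at h
    rw [biUnion_associatedPrimes_eq_zero_divisors T T]
    exact ⟨c, hc0, h⟩
  have hfin := associatedPrimes.finite T T
  rw [← hfin.coe_toFinset] at hzd
  obtain ⟨p, hp, hle⟩ := (Ideal.subset_union_prime (⊥ : Ideal T) ⊥
    (fun i hi _ _ => (hfin.mem_toFinset.1 hi).isPrime)).1 hzd
  rw [hfin.mem_toFinset] at hp
  exact le_antisymm ((hT p hp).2 ⟨inferInstance, bot_le⟩ hle) hle ▸ hp

/-- Algebraically independent elements stay so modulo an associated prime. -/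
theorem algebraicIndependent_mk {ι : Type u} (t : ι → D) (ht : AlgebraicIndependent A t) :
    letI : Algebra (T ⧸ r.comap (algebraMap T (T ⊗[A] D))) ((T ⊗[A] D) ⧸ r) :=
      Ideal.Quotient.algebraQuotientOfLEComap le_rfl
    AlgebraicIndependent (T ⧸ r.comap (algebraMap T (T ⊗[A] D))) fun i => Ideal.Quotient.mk r ((1 : T) ⊗ₜ[A] t i) := by
  classical
  haveI := hr.isPrime
  have h0 := comap_mem_associatedPrimes r hr hT
  let r₀ := r.comap (algebraMap T (T ⊗[A] D))
  letI : Algebra (T ⧸ r.comap (algebraMap T (T ⊗[A] D))) ((T ⊗[A] D) ⧸ r) :=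
    Ideal.Quotient.algebraQuotientOfLEComap le_rfl
  refine algebraicIndependent_iff.2 fun q hq => ?_
  obtain ⟨z, rfl⟩ := MvPolynomial.map_surjective (Ideal.Quotient.mk r₀) Ideal.Quotient.mk_surjective q
  rw [aeval_def, eval₂_map] at hq
  have hz : aeval (fun i => (1 : T) ⊗ₜ[A] t i) z ∈ r := by
    rw [← Ideal.Quotient.eq_zero_iff_mem, aeval_def, hom_eval₂]
    exact hq
  have hfin := associatedPrimes.finite T T
  by_contra hne
  obtain ⟨d, hd⟩ := MvPolynomial.ne_zero_iff.1 hne
  rw [coeff_map] at hd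
  have hd' : coeff d z ∉ r₀ := fun h => hd (Ideal.Quotient.eq_zero_iff_mem.2 h)
  let S := hfin.toFinset.erase r₀
  have hav : ∀ p ∈ S, ¬ r₀ ≤ p ∧ ¬ p ≤ r₀ := fun p hp => by
    obtain ⟨hne', hp'⟩ := Finset.mem_erase.1 hp
    rw [hfin.mem_toFinset] at hp'
    exact ⟨fun hle => hne' (le_antisymm ((hT p hp').2 ⟨inferInstance, bot_le⟩ hle) hle),
      fun hle => hne' (le_antisymm hle ((hT r₀ h0).2 ⟨hp'.isPrime, bot_le⟩ hle))⟩
  -- `s` lies in the other associated primes, `a` in none of them
  have hs : ¬ S.inf id ≤ r₀ := fun hle => by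
    obtain ⟨p, hp, hle'⟩ := (Ideal.IsPrime.inf_le' inferInstance).1 hle
    exact (hav p hp).2 hle'
  obtain ⟨s, hsmem, hsr⟩ := SetLike.not_le_iff_exists.1 hs
  obtain ⟨a, hamem, ha⟩ := Set.not_subset.1 (fun hsub : (r₀ : Set T) ⊆ ⋃ p ∈ (↑S : Set (Ideal T)), (p : Set T) => by
    obtain ⟨p, hp, hle⟩ := (Ideal.subset_union_prime (⊥ : Ideal T) ⊥
      (fun i hi _ _ => (hfin.mem_toFinset.1 (Finset.mem_of_mem_erase hi)).isPrime)).1 hsub
    exact (hav p hp).1 hle)
  let z' : MvPolynomial ι T := C s * z + C a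
  have hz' : aeval (fun i => (1 : T) ⊗ₜ[A] t i) z' ∈ r := by
    rw [map_add, map_mul, aeval_C, aeval_C]
    exact add_mem (Ideal.mul_mem_left _ _ hz) hamem
  obtain ⟨c, hc0, hc⟩ := exists_coeff_mul_eq_zero_of_mem T t ht r hr z' hz'
  obtain ⟨p, hp, hle⟩ := exists_le_isAssociatedPrime_of_isNoetherianRing T c hc0
  have hmem : ∀ e, coeff e z' ∈ p := fun e => hle (by
    rw [Submodule.mem_colon_singleton, Submodule.mem_bot, smul_eq_mul]; exact hc e)
  haveI := hp.isPrime
  by_cases hpr : p = r₀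
  · have h := hmem d
    rw [coeff_add, coeff_C_mul, hpr] at h
    refine ((Ideal.IsPrime.mem_or_mem (I := r₀) inferInstance ((Ideal.add_mem_iff_left _ ?_).1 h)).resolve_left hsr |> hd')
    rw [coeff_C]
    split_ifs
    · exact hamem
    · exact zero_mem _
  · have hpS : p ∈ S := Finset.mem_erase.2 ⟨hpr, hfin.mem_toFinset.2 hp⟩
    have h := hmem 0
    rw [coeff_add, coeff_C_mul, coeff_zero_C] at h
    exact ha (Set.mem_iUnion₂.2 ⟨p, hpS, (Ideal.add_mem_iff_right _
      (Ideal.mul_mem_right _ _ (Submodule.mem_finsetInf.1 hsmem p hpS))).1 h⟩)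

end

end Groth.Agent.FSC5
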