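import Groth.Agent.Lib.FSC5.Strict
import Groth.Agent.Lib.FSC5.Generic
import Groth.Agent.Lib.FSC5.DimEqEss
import Groth.Agent.Lib.CAlgLow.NagataFT
import Groth.Agent.Lib.NormFin18.Nagata
import Groth.Agent.Lib.PropsNagata1.Basic

/-!
# Formally strictly catenary rings are stable under essentially finite type extensions
-/

set_option autoImplicit false
universe u

open IsLocalRing TensorProduct

namespace Groth.Agent.FSC5

open Groth.Agent DimFormula14

theorem isNagata_of_essFiniteType (R S : Type u) [CommRing R] [CommRing S] [Algebra R S] [Algebra.EssFiniteType R S]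
    (hR : CAlg.IsNagata R) : CAlg.IsNagata S :=
  PropsNagata1.isNagata_of_ringEquiv
    (IsLocalization.algEquiv (Algebra.EssFiniteType.submonoid R S)
      (Localization (Algebra.EssFiniteType.submonoid R S)) S).toRingEquiv
    (NormFin18.isNagata_localization _ (CAlgLow.isNagata_of_finiteType hR _) _)

/-- Generators of an algebra generated by the images of a domain bound its transcendence degree. -/
theorem tr_le_of_adjoin {R K : Type u} [CommRing R] [IsDomain R] [CommRing K] [IsDomain K] [Algebra R K]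
    [FaithfulSMul R K] {R' K' : Type u} [CommRing R'] [IsDomain R'] [CommRing K'] [IsDomain K'] [Algebra R' K']
    (f : R →+* R') (g : K →+* K') (hg : Function.Injective g)
    (h : (algebraMap R' K').comp f = g.comp (algebraMap R K))
    (hgen : Algebra.adjoin R' (Set.range g) = ⊤) : tr R' K' ≤ tr R K := by
  obtain ⟨s, hs⟩ := exists_isTranscendenceBasis R K
  haveI := hs.isAlgebraic
  rw [Subtype.range_coe_subtype, Set.setOf_mem_eq] at this
  let W : Subalgebra R' K' := Algebra.adjoin R' (g '' s)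
  have hmap : ∀ x ∈ Algebra.adjoin R s, g x ∈ W := fun x hx => by
    induction hx using Algebra.adjoin_induction with
    | mem x hx => exact Algebra.subset_adjoin ⟨x, hx, rfl⟩
    | algebraMap a =>
      rw [show g (algebraMap R K a) = algebraMap R' K' (f a) from (RingHom.congr_fun h a).symm]
      exact W.algebraMap_mem _
    | add x y _ _ hx hy => rw [map_add]; exact add_mem hx hy
    | mul x y _ _ hx hy => rw [map_mul]; exact mul_mem hx hy
  let fW : Algebra.adjoin R s →+* W :=
    RingHom.codRestrict (g.comp (Algebra.adjoin R s).val.toRingHom) W fun x => hmap x.1 x.2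
  have halg : ∀ x : K, IsAlgebraic W (g x) := fun x =>
    (Algebra.IsAlgebraic.isAlgebraic (R := Algebra.adjoin R s) x).ringHom_of_comp_eq (f := fW) (g := g)
      (fun a b hab => Subtype.ext (hg (congrArg Subtype.val hab))) (RingHom.ext fun _ => rfl)
  have hall : (Algebra.adjoin W (Set.range g)).IsAlgebraic :=
    Algebra.isAlgebraic_adjoin_iff.2 fun y hy => by obtain ⟨x, rfl⟩ := hy; exact halg x
  haveI : Algebra.IsAlgebraic W K' := ⟨fun y => hall y (by
    have hle : Algebra.adjoin R' (Set.range g) ≤ (Algebra.adjoin W (Set.range g)).restrictScalars R' :=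
      Algebra.adjoin_le (Algebra.subset_adjoin (R := W))
    exact hle (hgen ▸ Algebra.mem_top))⟩
  refine (OrderHomClass.mono Cardinal.toENat (Algebra.IsAlgebraic.trdeg_le_cardinalMk R' (g '' s))).trans ?_
  exact OrderHomClass.mono Cardinal.toENat (Cardinal.mk_image_le.trans hs.1.cardinalMk_le_trdeg)

/-- Heights modulo a prime of an algebra generated by a domain of generic dimension at least as large. -/
theorem height_comap_le_of_generated {A : Type u} [CommRing A] [IsDomain A] (hA : CAlg.IsUniversallyCatenary A)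
    {D : Type u} [CommRing D] [IsDomain D] [Algebra A D] [FaithfulSMul A D] [Algebra.EssFiniteType A D]
    {T : Type u} [CommRing T] [Algebra A T] (hT : CAlg.IsUniversallyCatenary T)
    {B : Type u} [CommRing B] [Algebra T B] [Algebra.EssFiniteType T B] (φ : D →+* B)
    (hφ : (algebraMap T B).comp (algebraMap A T) = φ.comp (algebraMap A D))
    (hgen : Algebra.adjoin T (Set.range φ) = ⊤) (r Q : Ideal B) [r.IsPrime] [Q.IsPrime] (hle : r ≤ Q)
    (hht : ((Q.comap (algebraMap T B)).comap (algebraMap A T)).height ≤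
      ((Q.comap (algebraMap T B)).map (Ideal.Quotient.mk (r.comap (algebraMap T B)))).height)
    (htr : letI : Algebra (T ⧸ r.comap (algebraMap T B)) (B ⧸ r) := Ideal.Quotient.algebraQuotientOfLEComap le_rfl
      tr A D ≤ tr (T ⧸ r.comap (algebraMap T B)) (B ⧸ r)) :
    (Q.comap φ).height ≤ (Q.map (Ideal.Quotient.mk r)).height := by
  let r₀ := r.comap (algebraMap T B)
  let Q₀ := Q.comap (algebraMap T B)
  let P := Q.comap φ
  let q := Q₀.comap (algebraMap A T)
  have hqP : q = P.comap (algebraMap A D) := by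
    show (Q.comap (algebraMap T B)).comap (algebraMap A T) = (Q.comap φ).comap (algebraMap A D)
    rw [Ideal.comap_comap, Ideal.comap_comap, hφ]
  haveI : P.LiesOver q := ⟨hqP⟩
  have h1 := height_add_tr_eq_ess hA q P
  letI : Algebra (T ⧸ r₀) (B ⧸ r) := Ideal.Quotient.algebraQuotientOfLEComap le_rfl
  haveI : IsScalarTower T (T ⧸ r₀) (B ⧸ r) := IsScalarTower.of_algebraMap_eq fun _ => rfl
  haveI : FaithfulSMul (T ⧸ r₀) (B ⧸ r) :=
    (faithfulSMul_iff_algebraMap_injective _ _).2 Ideal.algebraMap_quotient_injective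
  haveI : Algebra.EssFiniteType (T ⧸ r₀) (B ⧸ r) := Algebra.EssFiniteType.of_comp T (T ⧸ r₀) (B ⧸ r)
  let q' := Q₀.map (Ideal.Quotient.mk r₀)
  let Q' := Q.map (Ideal.Quotient.mk r)
  have hQ₀le : r₀ ≤ Q₀ := Ideal.comap_mono hle
  haveI : q'.IsPrime := Ideal.map_isPrime_of_surjective Ideal.Quotient.mk_surjective (Ideal.mk_ker.trans_le hQ₀le)
  haveI : Q'.IsPrime := Ideal.map_isPrime_of_surjective Ideal.Quotient.mk_surjective (Ideal.mk_ker.trans_le hle)
  have hQ'c : Q'.comap (Ideal.Quotient.mk r) = Q := Ideal.comap_map_mk hle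
  haveI : Q'.LiesOver q' := ⟨by
    refine Ideal.comap_injective_of_surjective _ Ideal.Quotient.mk_surjective ?_
    rw [Ideal.comap_map_mk hQ₀le, Ideal.under_def, Ideal.comap_comap]
    show Q₀ = Q'.comap ((Ideal.Quotient.mk r).comp (algebraMap T B))
    rw [← Ideal.comap_comap, hQ'c]⟩
  have h2 := height_add_tr_eq_ess (R := T ⧸ r₀) (S := B ⧸ r)
    (UCat.isUniversallyCatenary_of_surjective (Ideal.Quotient.mk r₀) Ideal.Quotient.mk_surjective hT) q' Q'
  have h5 : tr ((T ⧸ r₀) ⧸ q') ((B ⧸ r) ⧸ Q') ≤ tr (A ⧸ q) (D ⧸ P) := by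
    haveI := faithfulSMul_quotient q P
    let g₀ : D →+* (B ⧸ r) ⧸ Q' := (Ideal.Quotient.mk Q').comp ((Ideal.Quotient.mk r).comp φ)
    have hg₀ : RingHom.ker g₀ = P := by
      rw [← RingHom.comap_ker, Ideal.mk_ker, ← Ideal.comap_comap, hQ'c]
    let f₀ : A →+* (T ⧸ r₀) ⧸ q' := (Ideal.Quotient.mk q').comp ((Ideal.Quotient.mk r₀).comp (algebraMap A T))
    have hq' : ∀ a ∈ q, f₀ a = 0 := fun a ha =>
      Ideal.Quotient.eq_zero_iff_mem.2 (Ideal.mem_map_of_mem _ ha)
    refine tr_le_of_adjoin (R := A ⧸ q) (K := D ⧸ P) (Ideal.Quotient.lift q f₀ hq')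
      (Ideal.Quotient.lift P g₀ fun x hx => (RingHom.mem_ker).1 (hg₀.ge hx)) ?_ ?_ ?_
    · exact RingHom.lift_injective_of_ker_le_ideal _ _ hg₀.le
    · refine Ideal.Quotient.ringHom_ext (RingHom.ext fun a => ?_)
      exact congrArg (fun z => Ideal.Quotient.mk Q' (Ideal.Quotient.mk r z)) (RingHom.congr_fun hφ a)
    · rw [eq_top_iff]
      rintro z -
      obtain ⟨z, rfl⟩ := Ideal.Quotient.mk_surjective z
      obtain ⟨z, rfl⟩ := Ideal.Quotient.mk_surjective z
      have hz : z ∈ Algebra.adjoin T (Set.range φ) := hgen ▸ Algebra.mem_top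
      induction hz using Algebra.adjoin_induction with
      | mem z hz =>
        obtain ⟨d, rfl⟩ := hz
        exact Algebra.subset_adjoin ⟨Ideal.Quotient.mk P d, rfl⟩
      | algebraMap a => exact Subalgebra.algebraMap_mem _ (Ideal.Quotient.mk q' (Ideal.Quotient.mk r₀ a))
      | add x y _ _ hx hy => rw [map_add, map_add]; exact add_mem hx hy
      | mul x y _ _ hx hy => rw [map_mul, map_mul]; exact mul_mem hx hy
  have hfin : tr (A ⧸ q) (D ⧸ P) ≠ ⊤ := by
    have hle' := le_add_self.trans h1.le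
    haveI := hA.1
    intro htop
    rw [htop, top_le_iff, ENat.add_eq_top] at hle'
    exact hle'.elim (Ideal.height_ne_top_of_isPrime (I := q)) (tr_ne_top_ess A D)
  refine (ENat.add_le_add_iff_right hfin).1 ?_
  calc P.height + tr (A ⧸ q) (D ⧸ P) = q.height + tr A D := h1
    _ ≤ q'.height + tr (T ⧸ r₀) (B ⧸ r) := add_le_add hht htr
    _ = Q'.height + _ := h2.symm
    _ ≤ Q'.height + tr (A ⧸ q) (D ⧸ P) := add_le_add le_rfl h5

section Core

variable {A : Type u} [CommRing A] [IsDomain A] [IsNoetherianRing A] [IsLocalRing A] {D : Type u} [CommRing D]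
  [IsDomain D] [Algebra A D] [FaithfulSMul A D] [Algebra.EssFiniteType A D]

omit [IsNoetherianRing A] [IsLocalRing A] [FaithfulSMul A D] [Algebra.EssFiniteType A D] [IsDomain A] [IsDomain D] in
theorem adjoin_includeRight (T : Type u) [CommRing T] [Algebra A T] :
    Algebra.adjoin T (Set.range (Algebra.TensorProduct.includeRight : D →ₐ[A] T ⊗[A] D).toRingHom) = ⊤ := by
  rw [eq_top_iff]
  rintro z -
  induction z using TensorProduct.induction_on with
  | zero => exact zero_mem _
  | add x y hx hy => exact add_mem hx hy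
  | tmul a d =>
    rw [show a ⊗ₜ[A] d = algebraMap T (T ⊗[A] D) a * ((1 : T) ⊗ₜ[A] d) by
      rw [Algebra.TensorProduct.algebraMap_apply, Algebra.TensorProduct.tmul_mul_tmul, mul_one, one_mul,
        Algebra.algebraMap_self_apply]]
    exact mul_mem (Subalgebra.algebraMap_mem _ a) (Algebra.subset_adjoin ⟨d, rfl⟩)

omit [Algebra.EssFiniteType A D] [IsNoetherianRing A] [IsLocalRing A] in
theorem tr_le_tr_tensor {T : Type u} [CommRing T] [IsNoetherianRing T] [Algebra A T] [Module.Flat A T]
    [IsNoetherianRing (T ⊗[A] D)] (hT : ∀ p ∈ associatedPrimes T T, p ∈ minimalPrimes T)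
    (r : Ideal (T ⊗[A] D)) (hr : r ∈ associatedPrimes (T ⊗[A] D) (T ⊗[A] D)) :
    letI : Algebra (T ⧸ r.comap (algebraMap T (T ⊗[A] D))) ((T ⊗[A] D) ⧸ r) :=
      Ideal.Quotient.algebraQuotientOfLEComap le_rfl
    tr A D ≤ tr (T ⧸ r.comap (algebraMap T (T ⊗[A] D))) ((T ⊗[A] D) ⧸ r) := by
  haveI := hr.isPrime
  obtain ⟨ι, t, ht⟩ := exists_isTranscendenceBasis' A D
  refine OrderHomClass.mono Cardinal.toENat ?_
  rw [← ht.cardinalMk_eq_trdeg]
  exact (algebraicIndependent_mk r hr hT t ht.1).cardinalMk_le_trdeg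

/-- The height over an associated prime dominates the height below. -/
theorem height_comap_le_tensor (hU : CAlg.IsUniversallyCatenary A) (hA : EGA4.IsStrictlyEquidim (EGA4.Cpl A))
    (r Q : Ideal (EGA4.Cpl A ⊗[A] D)) [Q.IsPrime]
    (hr : r ∈ associatedPrimes (EGA4.Cpl A ⊗[A] D) (EGA4.Cpl A ⊗[A] D)) (hle : r ≤ Q) :
    (Q.comap (Algebra.TensorProduct.includeRight : D →ₐ[A] EGA4.Cpl A ⊗[A] D).toRingHom).height ≤
      (Q.map (Ideal.Quotient.mk r)).height := by
  haveI := hr.isPrime
  haveI := CplLocH7.isNoetherianRing_cpl A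
  haveI := CplLocH7.faithfullyFlat_cpl A
  haveI : IsNoetherianRing (EGA4.Cpl A ⊗[A] D) :=
    Algebra.EssFiniteType.isNoetherianRing (EGA4.Cpl A) (EGA4.Cpl A ⊗[A] D)
  haveI : IsAdicComplete (maximalIdeal (EGA4.Cpl A)) (EGA4.Cpl A) := by
    rw [CplLocH7.maximalIdeal_cpl]
    exact (IsAdicComplete.map_algebraMap_iff _ _).2 (AdicCompletion.isAdicComplete (IsNoetherian.noetherian _))
  have hTmin : ∀ p ∈ associatedPrimes (EGA4.Cpl A) (EGA4.Cpl A), p ∈ minimalPrimes (EGA4.Cpl A) := fun p hp => by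
    haveI := hp.isPrime
    refine ⟨⟨inferInstance, bot_le⟩, fun q hq hqp => ?_⟩
    haveI := hq.1
    have := eq_of_le_of_dim (⟨q, inferInstance⟩ : PrimeSpectrum (EGA4.Cpl A)) ⟨p, inferInstance⟩ hqp
      ((ringKrullDim_quotient_le q).trans (hA p hp).ge)
    exact (congrArg PrimeSpectrum.asIdeal this).ge
  refine height_comap_le_of_generated hU (UCat.isUniversallyCatenary_of_complete (EGA4.Cpl A)) _ ?_
    (adjoin_includeRight (EGA4.Cpl A)) r Q hle ?_ (tr_le_tr_tensor hTmin r hr)
  · exact RingHom.ext fun a =>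
      ((Algebra.TensorProduct.includeRight : D →ₐ[A] EGA4.Cpl A ⊗[A] D).commutes a).symm
  · exact height_comap_le_height_map hA ⟨r.comap _, inferInstance⟩ ⟨Q.comap _, inferInstance⟩
      (comap_mem_associatedPrimes r hr hTmin) (Ideal.comap_mono hle)

/-- Domains essentially of finite type over a formally strictly equidimensional ring have finite hulls. -/
theorem hull_of_essFiniteType (hU : CAlg.IsUniversallyCatenary A) (hA : EGA4.IsStrictlyEquidim (EGA4.Cpl A)) :
    EGA4.HeightOneHullFinite D := by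
  haveI := CplLocH7.isNoetherianRing_cpl A
  haveI := CplLocH7.faithfullyFlat_cpl A
  haveI : IsNoetherianRing D := Algebra.EssFiniteType.isNoetherianRing A D
  haveI : IsNoetherianRing (EGA4.Cpl A ⊗[A] D) :=
    Algebra.EssFiniteType.isNoetherianRing (EGA4.Cpl A) (EGA4.Cpl A ⊗[A] D)
  haveI : IsNoetherianRing (CommRingCat.of D) := ‹IsNoetherianRing D›
  haveI : IsNoetherianRing (CommRingCat.of (EGA4.Cpl A ⊗[A] D)) := ‹IsNoetherianRing (EGA4.Cpl A ⊗[A] D)›
  haveI : IsAdicComplete (maximalIdeal (EGA4.Cpl A)) (EGA4.Cpl A) := by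
    rw [CplLocH7.maximalIdeal_cpl]
    exact (IsAdicComplete.map_algebraMap_iff _ _).2 (AdicCompletion.isAdicComplete (IsNoetherian.noetherian _))
  have hUB : CAlg.IsUniversallyCatenary (EGA4.Cpl A ⊗[A] D) :=
    UCat.isUniversallyCatenary_of_essFiniteType _ _ (UCat.isUniversallyCatenary_of_complete (EGA4.Cpl A))
  obtain ⟨_, hN⟩ := isNagata_of_essFiniteType (EGA4.Cpl A) (EGA4.Cpl A ⊗[A] D) (CplDomain.isNagata_of_complete _)
  let c := (Algebra.TensorProduct.comm A D (EGA4.Cpl A)).toRingEquiv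
  let φ : D →+* EGA4.Cpl A ⊗[A] D := (Algebra.TensorProduct.includeRight : D →ₐ[A] EGA4.Cpl A ⊗[A] D).toRingHom
  have hφ : φ = c.toRingHom.comp (algebraMap D (D ⊗[A] EGA4.Cpl A)) :=
    RingHom.ext fun d => (Algebra.TensorProduct.comm_tmul A d (1 : EGA4.Cpl A)).symm
  have hflat : φ.Flat := hφ ▸ RingHom.Flat.comp (RingHom.flat_algebraMap_iff.2 inferInstance)
    (RingHom.Flat.of_bijective c.bijective)
  have hsurj : Function.Surjective (PrimeSpectrum.comap φ) := by
    rw [hφ, PrimeSpectrum.comap_comp]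
    exact (PrimeSpectrum.comap_surjective_of_faithfullyFlat).comp (PrimeSpectrum.comapEquiv c).symm.surjective
  rw [lfin_iff_hull D]
  exact lfin_of_heights (CommRingCat.ofHom φ) hflat (htTwo D) (htTwo_stable D) hsurj
    (fun p _ _ => ZClos5.heightOneHullFinite_of_universallyCatenary
      (UCat.isUniversallyCatenary_of_surjective (Ideal.Quotient.mk p) Ideal.Quotient.mk_surjective hUB)
      (hN p (FractionRing ((EGA4.Cpl A ⊗[A] D) ⧸ p)) inferInstance))
    fun p Q hp _ hle hQ => le_trans hQ (height_comap_le_tensor hU hA p.asIdeal Q.asIdeal hp hle)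

end Core

theorem isFormallyStrictlyCatenary_essFiniteType (A : Type u) [CommRing A] [IsNoetherianRing A] [IsLocalRing A]
    (hA : EGA4.IsFormallyStrictlyCatenary A) (B : Type u) [CommRing B] [IsNoetherianRing B] [IsLocalRing B]
    [Algebra A B] [Algebra.EssFiniteType A B] : EGA4.IsFormallyStrictlyCatenary B := by
  have hU := ((isFormallyStrictlyCatenary_iff A).1 hA).1
  refine (isFormallyStrictlyCatenary_iff B).2 ⟨UCat.isUniversallyCatenary_of_essFiniteType A B hU, fun P _ => ?_⟩
  let p := P.comap (algebraMap A B)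
  haveI : P.LiesOver p := ⟨rfl⟩
  haveI : Algebra.EssFiniteType A (B ⧸ P) := inferInstance
  haveI : Algebra.EssFiniteType (A ⧸ p) (B ⧸ P) := Algebra.EssFiniteType.of_comp A (A ⧸ p) (B ⧸ P)
  haveI : Nontrivial (A ⧸ p) := Ideal.Quotient.nontrivial_iff.2 (Ideal.IsPrime.ne_top inferInstance)
  haveI : IsLocalRing (A ⧸ p) := IsLocalRing.of_surjective' (Ideal.Quotient.mk p) Ideal.Quotient.mk_surjective
  haveI := DimFormula14.faithfulSMul_quotient p P
  exact hull_of_essFiniteType (UCat.isUniversallyCatenary_of_surjective (Ideal.Quotient.mk p)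
    Ideal.Quotient.mk_surjective hU) (hA p)

end Groth.Agent.FSC5
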