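import Groth.Agent.Lib.ZClos5.Family
import Groth.Agent.S5854
import Groth.Agent.Lib.PicAff14.Basic
import Groth.Agent.Lib.CplDomain.Nagata
import Groth.Agent.Lib.UCat.Universal
import Groth.Agent.Lib.CplLocH7.Basic
import Groth.Agent.Lib.Hironaka.Main
import Groth.Agent.Lib.LocCoh.Cutoff27

/-!
# Finiteness of height-one hulls read on completions
-/

set_option autoImplicit false
set_option backward.isDefEq.respectTransparency false

universe u

open CategoryTheory CategoryTheory.Limits AlgebraicGeometry TopologicalSpace Opposite TensorProduct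

namespace Groth.Agent.FSC5

open Groth.Agent

/-- Quotient domains of complete local rings have finite height-one hulls. -/
theorem heightOneHullFinite_of_complete (B : Type u) [CommRing B] [IsLocalRing B] [IsNoetherianRing B]
    [IsAdicComplete (IsLocalRing.maximalIdeal B) B] (p : Ideal B) [p.IsPrime] :
    EGA4.HeightOneHullFinite (B ⧸ p) := by
  obtain ⟨_, hN⟩ := CplDomain.isNagata_of_complete B
  exact ZClos5.heightOneHullFinite_of_universallyCatenary
    (UCat.isUniversallyCatenary_of_surjective (Ideal.Quotient.mk p) Ideal.Quotient.mk_surjective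
      (UCat.isUniversallyCatenary_of_complete B))
    (hN p (FractionRing (B ⧸ p)) inferInstance)

variable {R S : CommRingCat.{u}} [IsNoetherianRing R] [IsNoetherianRing S] (φ : R ⟶ S) (hφ : φ.hom.Flat)
  (Z : Set (Spec R : Scheme.{u})) (hZ : StableUnderSpecialization Z)
include hZ

omit [IsNoetherianRing S] in
theorem coh_iff_lfin (M : Type u) [AddCommGroup M] [Module R M] :
    Coh.IsCoh ((ZClos.H0 Z).obj ((tilde.functor R).obj (ModuleCat.of R M))) ↔ ZClos5.LFin Z M := by
  haveI := ZClos5.isQCoh_tilde (R := R) (ModuleCat.of R M)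
  have hq := Groth.Agent.S5841.result _ Z hZ ((tilde.functor R).obj (ModuleCat.of R M)) inferInstance
  exact ⟨fun h => (M1.isFT_iff_finite_spec _ hq).1 h.2, fun h => ⟨hq, (M1.isFT_iff_finite_spec _ hq).2 h⟩⟩

include hφ

/-- Transfer of coherence to a flat algebra, and back for a faithfully flat one. -/
theorem coh_pullback :
    (ZClos5.LFin Z R → ZClos5.LFin ((Spec.map φ).base ⁻¹' Z) S) ∧
      (Function.Surjective (PrimeSpectrum.comap φ.hom) → ZClos5.LFin ((Spec.map φ).base ⁻¹' Z) S → ZClos5.LFin Z R) := by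
  haveI : Flat (Spec.map φ) := Flat.SpecMap_iff.2 hφ
  letI := φ.hom.toAlgebra
  have hZ' : StableUnderSpecialization ((Spec.map φ).base ⁻¹' Z) :=
    fun a b hab ha => hZ (hab.map (Spec.map φ).continuous) ha
  haveI := ZClos5.isQCoh_tilde (R := R) (ModuleCat.of R R)
  obtain ⟨i⟩ := PicAff14.pullback_tilde_iso φ (ModuleCat.of R R)
  let j : (Scheme.Modules.pullback (Spec.map φ)).obj ((tilde.functor R).obj (ModuleCat.of R R)) ≅
      (tilde.functor S).obj (ModuleCat.of S S) :=
    i ≪≫ PicAff14.tildeIsoOfEquiv (M := ModuleCat.of S ((S : Type u) ⊗[R] (R : Type u))) (N := ModuleCat.of S S)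
      (AlgebraTensorModule.rid R S S)
  have h := Groth.Agent.S5854.result (Spec.map φ) Z hZ ((tilde.functor R).obj (ModuleCat.of R R)) inferInstance
  rw [← coh_iff_lfin Z hZ R, ← coh_iff_lfin _ hZ' S]
  refine ⟨fun hR => CohFound.isCoh_of_iso ((ZClos.H0 _).mapIso j) (h.1 hR), fun hs hS => ?_⟩
  exact h.2 ⟨hs⟩ inferInstance (CohFound.isCoh_of_iso ((ZClos.H0 _).mapIso j).symm hS)

/-- Necessary condition along a flat algebra. -/
theorem two_le_height_of_lfin (h : ZClos5.LFin Z R) (p Q : PrimeSpectrum S) (hp : p.asIdeal ∈ associatedPrimes S S)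
    (hpZ : (PrimeSpectrum.comap φ.hom p) ∉ Z) (hle : p ≤ Q) (hQ : PrimeSpectrum.comap φ.hom Q ∈ Z) :
    (2 : ℕ∞) ≤ (Q.asIdeal.map (Ideal.Quotient.mk p.asIdeal)).height := by
  let Z' : Set (Spec S : Scheme.{u}) := (Spec.map φ).base ⁻¹' Z
  have hZ' : StableUnderSpecialization Z' := fun a b hab ha => hZ (hab.map (Spec.map φ).continuous) ha
  let G := (tilde.functor S).obj (ModuleCat.of S S)
  haveI : Coh.IsQCoh G := ZClos5.isQCoh_tilde (R := S) (ModuleCat.of S S)
  have hG : Coh.IsCoh G := ⟨inferInstance, M1.isFT_tilde (ModuleCat.of S S)⟩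
  have hH := (coh_iff_lfin Z' hZ' S).2 ((coh_pullback φ hφ Z hZ).1 h)
  have hass : (p : (Spec S : Scheme.{u})) ∈ AssSch.Ass G := by
    refine ZClos5.mem_ass_of_associatedPrime G p ?_
    exact (LinearEquiv.AssociatedPrimes.eq (tilde.isoTop (ModuleCat.of S S)).toLinearEquiv).subset hp
  have hxy : (p : (Spec S : Scheme.{u})) ⤳ Q := (PrimeSpectrum.le_iff_specializes p Q).1 hle
  exact WithBot.coe_le_coe.1 ((ZClos5.two_le_dim_quot Z' hZ' G hG hH p hass hpZ Q hQ hxy).trans
    (ZClos5.dim_quot_le_height p Q hxy))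

/-- Sufficient condition on a faithfully flat algebra. -/
theorem lfin_of_heights (hs : Function.Surjective (PrimeSpectrum.comap φ.hom))
    (hhull : ∀ (p : Ideal S) [p.IsPrime], p ∈ associatedPrimes S S → EGA4.HeightOneHullFinite (S ⧸ p))
    (hht : ∀ p Q : PrimeSpectrum S, p.asIdeal ∈ associatedPrimes S S → PrimeSpectrum.comap φ.hom p ∉ Z → p ≤ Q →
      PrimeSpectrum.comap φ.hom Q ∈ Z → (2 : ℕ∞) ≤ (Q.asIdeal.map (Ideal.Quotient.mk p.asIdeal)).height) :
    ZClos5.LFin Z R := by
  let Z' : Set (Spec S : Scheme.{u}) := (Spec.map φ).base ⁻¹' Z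
  have hZ' : StableUnderSpecialization Z' := fun a b hab ha => hZ (hab.map (Spec.map φ).continuous) ha
  refine (coh_pullback φ hφ Z hZ).2 hs (ZClos5.lfin_of_assPrimes Z' hZ' S fun p _ hp => ?_)
  by_cases hpZ : (⟨p, inferInstance⟩ : PrimeSpectrum S) ∈ Z'
  · exact ZClos5.lfin_quotient_of_mem Z' hZ' p hpZ
  · exact ZClos5.lfin_quotient Z' hZ' p hpZ (fun y hy hle => hht ⟨p, inferInstance⟩ y hp hpZ hle hy) (hhull p hp)

omit hφ hZ [IsNoetherianRing R] [IsNoetherianRing S] Z φ

section Local

/-- The points of height at least two. -/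
def htTwo (R : Type u) [CommRing R] : Set (PrimeSpectrum R) := {y | (2 : ℕ∞) ≤ y.asIdeal.height}

theorem htTwo_stable (R : Type u) [CommRing R] : StableUnderSpecialization (htTwo R) := fun y y' hyy' hy =>
  le_trans (show (2 : ℕ∞) ≤ y.asIdeal.height from hy)
    (Ideal.height_mono ((PrimeSpectrum.le_iff_specializes y y').2 hyy'))

theorem bot_notMem_htTwo (R : Type u) [CommRing R] [IsDomain R] (y : PrimeSpectrum R) (hy : y.asIdeal = ⊥) :
    y ∉ htTwo R := fun h => by
  have h : (2 : ℕ∞) ≤ y.asIdeal.height := h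
  rw [Ideal.height_eq_zero_iff_eq_bot.2 hy] at h
  exact absurd h (by decide)

theorem lfin_iff_hull (A : Type u) [CommRing A] [IsDomain A] [IsNoetherianRing A] :
    EGA4.HeightOneHullFinite A ↔ ZClos5.LFin (R := CommRingCat.of A) (htTwo A) A := by
  haveI : IsNoetherianRing (CommRingCat.of A) := ‹IsNoetherianRing A›
  have hb : (⟨(⊥ : Ideal A), Ideal.isPrime_bot⟩ : PrimeSpectrum A) ∉ htTwo A := bot_notMem_htTwo A _ rfl
  have hmap : ∀ y : PrimeSpectrum A, (y.asIdeal.map (Ideal.Quotient.mk (⊥ : Ideal A))).height = y.asIdeal.height := fun y =>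
    (RingEquiv.quotientBot A).symm.height_map y.asIdeal
  constructor
  · intro h
    refine ZClos5.lfin_of_assPrimes (R := CommRingCat.of A) (htTwo A) (htTwo_stable A) A fun p _ hp => ?_
    obtain ⟨-, m, hm⟩ := isAssociatedPrime_iff.1 hp
    obtain rfl : p = ⊥ := by
      rw [eq_bot_iff]
      intro r hr
      rw [hm, Submodule.mem_colon_singleton, Submodule.mem_bot, smul_eq_mul] at hr
      refine (mul_eq_zero.1 hr).elim id fun h0 => ?_
      exact absurd (hm.trans (eq_top_iff.2 fun r _ => by rw [Submodule.mem_colon_singleton, h0, smul_zero]; exact Submodule.zero_mem _))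
        (Ideal.IsPrime.ne_top ‹_›)
    exact ZClos5.lfin_quotient (R := CommRingCat.of A) (htTwo A) (htTwo_stable A) ⊥ hb
      (fun y hy _ => (hy : (2 : ℕ∞) ≤ y.asIdeal.height).trans_eq (hmap y).symm)
      (Hironaka.heightOneHull_transfer (RingEquiv.quotientBot A) h)
  · intro h
    refine Hironaka.heightOneHull_transfer (RingEquiv.quotientBot A).symm
      (ZClos5.heightOneHullFinite_of_lfin (R := CommRingCat.of A) (htTwo A) (htTwo_stable A) ⊥ hb (fun x hx _ => ?_) ?_)
    · exact (hmap x).trans_le (Order.le_of_lt_add_one (not_le.1 fun h2 => hx (le_trans (by norm_num) h2)))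
    · exact ZClos5.lfin_of_injective (R := CommRingCat.of A) (htTwo A) (htTwo_stable A)
        (Submodule.quotEquivOfEqBot (⊥ : Ideal A) rfl).toLinearMap (LinearEquiv.injective _) h

theorem comap_ass_eq_bot {A B : Type u} [CommRing A] [IsDomain A] [CommRing B] [IsNoetherianRing B] [Algebra A B]
    [Module.Flat A B] (p : PrimeSpectrum B) (hp : p.asIdeal ∈ associatedPrimes B B) :
    p.asIdeal.comap (algebraMap A B) = ⊥ := by
  rw [eq_bot_iff]
  intro a ha
  by_contra ha0
  obtain ⟨-, m, hm⟩ := isAssociatedPrime_iff.1 hp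
  rw [Ideal.mem_comap, hm, Submodule.mem_colon_singleton, Submodule.mem_bot] at ha
  have hreg : IsSMulRegular B (algebraMap A B a) :=
    (IsSMulRegular.of_right_eq_zero_of_smul fun z hz => (mul_eq_zero.1 hz).resolve_left ha0 :
      IsSMulRegular A a).of_flat
  have hm0 : m = 0 := isSMulRegular_iff_right_eq_zero_of_smul.1 hreg m ha
  exact Ideal.IsPrime.ne_top p.isPrime (hm.trans (eq_top_iff.2 fun r _ => by
    rw [Submodule.mem_colon_singleton, hm0, smul_zero]; exact Submodule.zero_mem _))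

/-- EGA IV 5.11: the height-one hull and the associated primes of the completion. -/
theorem heightOneHullFinite_iff_cpl (A : Type u) [CommRing A] [IsDomain A] [IsNoetherianRing A] [IsLocalRing A] :
    EGA4.HeightOneHullFinite A ↔
      ∀ p' ∈ associatedPrimes (EGA4.Cpl A) (EGA4.Cpl A), ∀ (Q' : Ideal (EGA4.Cpl A)) [Q'.IsPrime], p' ≤ Q' →
        (2 : ℕ∞) ≤ (Q'.comap (algebraMap A (EGA4.Cpl A))).height →
          (2 : ℕ∞) ≤ (Q'.map (Ideal.Quotient.mk p')).height := by
  haveI : IsNoetherianRing (CommRingCat.of A) := ‹IsNoetherianRing A›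
  haveI : IsNoetherianRing (EGA4.Cpl A) := CplLocH7.isNoetherianRing_cpl A
  haveI : IsNoetherianRing (CommRingCat.of (EGA4.Cpl A)) := ‹IsNoetherianRing (EGA4.Cpl A)›
  haveI := CplLocH7.faithfullyFlat_cpl A
  haveI : IsAdicComplete (IsLocalRing.maximalIdeal (EGA4.Cpl A)) (EGA4.Cpl A) := by
    rw [CplLocH7.maximalIdeal_cpl]
    exact (IsAdicComplete.map_algebraMap_iff _ _).2 (AdicCompletion.isAdicComplete (IsNoetherian.noetherian _))
  have hflat : (CommRingCat.ofHom (algebraMap A (EGA4.Cpl A))).hom.Flat := RingHom.flat_algebraMap_iff.2 inferInstance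
  rw [lfin_iff_hull A]
  constructor
  · intro h p' hp' Q' _ hle hQ
    haveI := hp'.isPrime
    exact two_le_height_of_lfin (CommRingCat.ofHom (algebraMap A (EGA4.Cpl A))) hflat (htTwo A) (htTwo_stable A) h
      ⟨p', inferInstance⟩ ⟨Q', inferInstance⟩ hp' (bot_notMem_htTwo A _ (comap_ass_eq_bot _ hp')) hle hQ
  · intro h
    exact lfin_of_heights (CommRingCat.ofHom (algebraMap A (EGA4.Cpl A))) hflat (htTwo A) (htTwo_stable A)
      PrimeSpectrum.comap_surjective_of_faithfullyFlat (fun p _ _ => heightOneHullFinite_of_complete _ p)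
      fun p Q hp _ hle hQ => h p.asIdeal hp Q.asIdeal hle hQ

end Local

end Groth.Agent.FSC5
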