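import Groth.Agent.Lib.FSC5.HullCpl
import Groth.Agent.Lib.FSC5.CMQuot
import Groth.Agent.Lib.UCat.Formal

/-!
# Formally strictly catenary local rings and height-one hulls
-/

set_option autoImplicit false
universe u

open IsLocalRing TensorProduct

namespace Groth.Agent.FSC5

open Groth.Agent

/-- Localising does not increase the height of one prime over another. -/
theorem height_map_localization_le {B : Type u} [CommRing B] (Q : Ideal B) [Q.IsPrime] (p : Ideal B) [p.IsPrime]
    (hle : p ≤ Q) [(p.map (algebraMap B (Localization.AtPrime Q))).IsPrime] :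
    (((maximalIdeal (Localization.AtPrime Q))).map
      (Ideal.Quotient.mk (p.map (algebraMap B (Localization.AtPrime Q))))).height ≤
      (Q.map (Ideal.Quotient.mk p)).height := by
  let L := Localization.AtPrime Q
  let x : PrimeSpectrum L := ⟨p.map (algebraMap B L), inferInstance⟩
  have hx : (PrimeSpectrum.comap (algebraMap B L) x).asIdeal = p :=
    IsLocalization.under_map_of_isPrime_disjoint Q.primeCompl L ‹p.IsPrime›
      (Set.disjoint_left.2 fun a ha hap => ha (hle hap))
  have hy : (PrimeSpectrum.comap (algebraMap B L) (closedPoint L)).asIdeal = Q := Localization.AtPrime.under_maximalIdeal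
  have hxy : x ≤ closedPoint L := IsLocalRing.le_maximalIdeal x.isPrime.ne_top
  rw [show (maximalIdeal L).map (Ideal.Quotient.mk (p.map (algebraMap B L))) =
      (closedPoint L).asIdeal.map (Ideal.Quotient.mk x.asIdeal) from rfl, ← LocCohLib.height_Ici_eq_map hxy,
    ← LocCohLib.height_Ici_eq_map (p := (⟨p, inferInstance⟩ : PrimeSpectrum B)) (q := ⟨Q, inferInstance⟩) hle]
  refine le_trans (Order.height_le_height_apply_of_strictMono (fun z : Set.Ici x =>
    (⟨PrimeSpectrum.comap (algebraMap B L) z.1, (hx.ge.trans (Ideal.comap_mono z.2) : p ≤ _)⟩ :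
      Set.Ici (⟨p, inferInstance⟩ : PrimeSpectrum B))) (fun a b hab => ?_) ⟨closedPoint L, hxy⟩) (le_of_eq (congrArg _ ?_))
  · exact ((IsLocalization.AtPrime.primeSpectrumOrderIso L Q).strictMono hab :
      PrimeSpectrum.comap (algebraMap B L) a.1 < PrimeSpectrum.comap (algebraMap B L) b.1)
  · exact Subtype.ext (PrimeSpectrum.ext hy)

/-- A prime minimal over `r + (a)` has height at most one above `r`. -/
theorem height_map_le_one {B : Type u} [CommRing B] [IsNoetherianRing B] (r Q : Ideal B) [Q.IsPrime] (a : B)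
    (hQmin : Q ∈ (r ⊔ Ideal.span {a}).minimalPrimes) : (Q.map (Ideal.Quotient.mk r)).height ≤ 1 := by
  have hrQ : r ≤ Q := le_sup_left.trans hQmin.1.2
  have haQ : a ∈ Q := hQmin.1.2 (Ideal.mem_sup_right (Ideal.mem_span_singleton_self _))
  haveI : (Q.map (Ideal.Quotient.mk r)).IsPrime :=
    Ideal.map_isPrime_of_surjective Ideal.Quotient.mk_surjective (Ideal.mk_ker.trans_le hrQ)
  refine Ideal.height_le_one_of_isPrincipal_of_mem_minimalPrimes (Ideal.span {Ideal.Quotient.mk r a}) _ ?_
  refine ⟨⟨inferInstance, (Ideal.span_singleton_le_iff_mem _).2 (Ideal.mem_map_of_mem _ haQ)⟩, fun J hJ hJle => ?_⟩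
  haveI := hJ.1
  have hJ' : J.comap (Ideal.Quotient.mk r) ≤ Q := (Ideal.comap_mono hJle).trans (Ideal.comap_map_mk hrQ).le
  have := hQmin.2 ⟨inferInstance, sup_le (Ideal.mk_ker.ge.trans (Ideal.ker_le_comap _))
    ((Ideal.span_singleton_le_iff_mem _).2 (hJ.2 (Ideal.subset_span rfl)))⟩ hJ'
  exact Ideal.map_le_iff_le_comap.2 this

/-- An associated prime modulo the kernel of a surjection, in the image. -/
theorem map_mem_associatedPrimes {B C : Type u} [CommRing B] [CommRing C] [IsNoetherianRing B] [IsNoetherianRing C]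
    (π : B →+* C) (hπ : Function.Surjective π) (Q : Ideal B) (hQ : Q ∈ associatedPrimes B (B ⧸ RingHom.ker π)) :
    Q.map π ∈ associatedPrimes C C ∧ ringKrullDim (C ⧸ Q.map π) = ringKrullDim (B ⧸ Q) := by
  obtain ⟨hQp, b, hb⟩ := isAssociatedPrime_iff.1 hQ
  obtain ⟨b, rfl⟩ := Ideal.Quotient.mk_surjective b
  have hb' : ∀ z, z ∈ Q ↔ z * b ∈ RingHom.ker π := fun z => (Ideal.ext_iff.1 hb z).trans (by
    rw [Submodule.mem_colon_singleton, Submodule.mem_bot]
    exact Ideal.Quotient.eq_zero_iff_mem (I := RingHom.ker π) (a := z * b))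
  have hkQ : RingHom.ker π ≤ Q := fun z hz => (hb' z).2 (Ideal.mul_mem_right _ _ hz)
  have hc : (Q.map π).comap π = Q := by
    rw [Ideal.comap_map_of_surjective _ hπ, ← RingHom.ker_eq_comap_bot, sup_eq_left.2 hkQ]
  refine ⟨isAssociatedPrime_iff.2 ⟨Ideal.map_isPrime_of_surjective hπ hkQ, π b, Ideal.ext fun z => ?_⟩, ?_⟩
  · obtain ⟨z, rfl⟩ := hπ z
    rw [← Ideal.mem_comap, hc, hb', Submodule.mem_colon_singleton, Submodule.mem_bot, smul_eq_mul, ← map_mul,
      RingHom.mem_ker]
  · exact ringKrullDim_eq_of_ringEquiv ((RingHom.quotientKerEquivOfSurjective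
      (f := (Ideal.Quotient.mk (Q.map π)).comp π) (Ideal.Quotient.mk_surjective.comp hπ)).symm.trans
      (Ideal.quotEquivOfEq (by rw [← RingHom.comap_ker, Ideal.mk_ker, hc])))

section Domain

variable {D : Type u} [CommRing D] [IsDomain D] [IsNoetherianRing D] [IsLocalRing D]

omit [IsDomain D] in
theorem dim_add_height_le (P : PrimeSpectrum D) :
    ringKrullDim (D ⧸ P.asIdeal) + (P.asIdeal.height : WithBot ℕ∞) ≤ ringKrullDim D := by
  rw [dim_quotient_eq_coheight, PrimeSpectrum.height_eq_orderHeight P, ← WithBot.coe_add, add_comm, ringKrullDim,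
    Order.krullDim_eq_iSup_height_add_coheight_of_nonempty, WithBot.coe_le_coe]
  exact le_iSup (fun a : PrimeSpectrum D => Order.height a + Order.coheight a) P

/-- Along a strictly equidimensional completion, heights over an associated prime dominate. -/
theorem height_comap_le_height_map (h : EGA4.IsStrictlyEquidim (EGA4.Cpl D)) (p' Q' : PrimeSpectrum (EGA4.Cpl D))
    (hp' : p'.asIdeal ∈ associatedPrimes (EGA4.Cpl D) (EGA4.Cpl D)) (hle : p' ≤ Q') :
    (Q'.asIdeal.comap (algebraMap D (EGA4.Cpl D))).height ≤ (Q'.asIdeal.map (Ideal.Quotient.mk p'.asIdeal)).height := by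
  haveI := CplLocH7.isNoetherianRing_cpl D
  haveI := CplLocH7.faithfullyFlat_cpl D
  haveI : IsAdicComplete (maximalIdeal (EGA4.Cpl D)) (EGA4.Cpl D) := by
    rw [CplLocH7.maximalIdeal_cpl]
    exact (IsAdicComplete.map_algebraMap_iff _ _).2 (AdicCompletion.isAdicComplete (IsNoetherian.noetherian _))
  let P : PrimeSpectrum D := PrimeSpectrum.comap (algebraMap D (EGA4.Cpl D)) Q'
  have h1 := LocCohLib.coheight_le_height_add (LocCohLib.isCatenary_of_isUniversallyCatenary
    (UCat.isUniversallyCatenary_of_complete (EGA4.Cpl D))) _ p' Q' hle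
    (ENat.natCast_toNat (Hironaka.coheight_ne_top p')).symm
  have h2 : ringKrullDim (EGA4.Cpl D ⧸ Q'.asIdeal) ≤ ringKrullDim (D ⧸ P.asIdeal) := by
    rw [← Ratliff.dim_quotient_map_cpl P.asIdeal P.isPrime.ne_top]
    exact ringKrullDim_le_of_surjective (Ideal.Quotient.factor Ideal.map_comap_le)
      (Ideal.Quotient.factor_surjective Ideal.map_comap_le)
  have h3 := dim_add_height_le P
  have h4 : ringKrullDim (EGA4.Cpl D ⧸ p'.asIdeal) = ringKrullDim D :=
    (h p'.asIdeal hp').trans (Compl.ringKrullDim_maximalIdeal_adicCompletion D)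
  rw [dim_quotient_eq_coheight] at h4
  rw [dim_quotient_eq_coheight, dim_quotient_eq_coheight, WithBot.coe_le_coe] at h2
  rw [dim_quotient_eq_coheight, ← h4, ← WithBot.coe_add, WithBot.coe_le_coe] at h3
  obtain ⟨c, hc⟩ := ENat.ne_top_iff_exists.1 (Hironaka.coheight_ne_top Q')
  have h5 : P.asIdeal.height + c ≤ (Q'.asIdeal.map (Ideal.Quotient.mk p'.asIdeal)).height + c :=
    calc P.asIdeal.height + (c : ℕ∞) ≤ P.asIdeal.height + Order.coheight P := add_le_add le_rfl (hc.le.trans h2)
      _ ≤ Order.coheight p' := by rw [add_comm]; exact h3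
      _ ≤ _ := by rw [hc]; exact h1
  exact (ENat.add_le_add_iff_right (ENat.natCast_ne_top c)).1 h5

/-- Strictly equidimensional completion gives a finite height-one hull. -/
theorem hull_of_strictlyEquidim (h : EGA4.IsStrictlyEquidim (EGA4.Cpl D)) : EGA4.HeightOneHullFinite D := by
  rw [heightOneHullFinite_iff_cpl D]
  intro p' hp' Q' _ hle hQ
  exact le_trans hQ (height_comap_le_height_map h ⟨p', hp'.isPrime⟩ ⟨Q', inferInstance⟩ hp' hle)

/-- Over a prime `P ≠ 0`, a prime of the completion of depth at most one is associated to the fibre over `P`. -/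
theorem mem_ass_fibre (Q : Ideal (EGA4.Cpl D)) [Q.IsPrime] (hP0 : Q.comap (algebraMap D (EGA4.Cpl D)) ≠ ⊥)
    (hdL : LocCoh.depth (Localization.AtPrime Q) (Localization.AtPrime Q) ≤ 1) :
    Q ∈ associatedPrimes (EGA4.Cpl D)
      (EGA4.Cpl D ⧸ (Q.comap (algebraMap D (EGA4.Cpl D))).map (algebraMap D (EGA4.Cpl D))) := by
  haveI := CplLocH7.isNoetherianRing_cpl D
  haveI := CplLocH7.faithfullyFlat_cpl D
  have hdB : LocCoh.depth (Localization.AtPrime Q) (LocalizedModule Q.primeCompl (EGA4.Cpl D ⊗[D] D)) ≤ 1 := by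
    refine le_trans (le_of_eq ?_) hdL
    rw [← DepthLib.depth_localizedModule_self Q]
    exact DepthLib.idealDepth_congr (IsLocalizedModule.mapEquiv Q.primeCompl
      (LocalizedModule.mkLinearMap Q.primeCompl (EGA4.Cpl D ⊗[D] D))
      (LocalizedModule.mkLinearMap Q.primeCompl (EGA4.Cpl D))
      (Localization.AtPrime Q) (AlgebraTensorModule.rid D (EGA4.Cpl D) (EGA4.Cpl D)))
  rw [LocCohLib.depth_tensor_cpl Q] at hdB
  have hdP := ClosedAlong.one_le_depth_of_notMem_associatedPrimes (Q.comap (algebraMap D (EGA4.Cpl D))) (M := D)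
    fun hass => hP0 (by
      obtain ⟨-, m, hm⟩ := isAssociatedPrime_iff.1 hass
      rw [eq_bot_iff]
      intro z hz
      have hz' := (Ideal.ext_iff.1 hm z).1 hz
      rw [Submodule.mem_colon_singleton, Submodule.mem_bot, smul_eq_mul] at hz'
      refine (mul_eq_zero.1 hz').elim id fun h0 => ?_
      exact absurd (hm.trans (eq_top_iff.2 fun r _ => by rw [Submodule.mem_colon_singleton, h0, smul_zero]; exact Submodule.zero_mem _))
        (Ideal.IsPrime.ne_top inferInstance))
  have hfib : LocCoh.depth (EGA4.FibLocRing D (EGA4.Cpl D) Q) (EGA4.FibLocRing D (EGA4.Cpl D) Q) = 0 := by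
    refine nonpos_iff_eq_zero.1 ((ENat.add_le_add_iff_left ENat.one_ne_top).1 ?_)
    rw [add_zero]
    exact (add_le_add hdP le_rfl).trans hdB
  rw [← LinearEquiv.AssociatedPrimes.eq ((FlatDepth.tensorQuotEquiv (EGA4.Cpl D) (Q.comap (algebraMap D (EGA4.Cpl D)))).trans
    (Submodule.quotEquivOfEq _ _ (by rw [Ideal.smul_eq_mul, Ideal.mul_top])))]
  by_contra hn
  have h1 := ClosedAlong.one_le_depth_of_notMem_associatedPrimes Q hn
  rw [LocCohLib.depth_tensor_cpl Q, hfib, add_zero] at h1
  refine ClosedAlong.notMem_associatedPrimes_of_one_le_depth (Q.comap (algebraMap D (EGA4.Cpl D)))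
    (M := D ⧸ Q.comap (algebraMap D (EGA4.Cpl D))) h1 ?_
  refine isAssociatedPrime_iff.2 ⟨inferInstance, Ideal.Quotient.mk _ 1, Ideal.ext fun z => ?_⟩
  rw [Submodule.mem_colon_singleton, Submodule.mem_bot]
  exact ((Ideal.Quotient.eq_zero_iff_mem (I := Q.comap (algebraMap D (EGA4.Cpl D))) (a := z * 1)).trans
    (by rw [mul_one])).symm

theorem coheight_bot_eq_add_one (hU : CAlg.IsUniversallyCatenary D) (P : PrimeSpectrum D) (hP : P.asIdeal.height = 1) :
    ringKrullDim D = ((Order.coheight P + 1 : ℕ∞) : WithBot ℕ∞) := by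
  let bD : PrimeSpectrum D := ⟨⊥, Ideal.isPrime_bot⟩
  have hbot : bD ⋖ P := by
    refine ⟨lt_of_le_of_ne (bot_le : (⊥ : Ideal D) ≤ P.asIdeal) fun h => ?_, fun z hz1 hz2 => ?_⟩
    · rw [← h, Ideal.height_eq_zero_iff_eq_bot.2 rfl] at hP
      exact zero_ne_one hP
    · have h1 : z.asIdeal.height < 1 := hP ▸ Ideal.height_strict_mono_of_isPrime hz2
      rw [Order.lt_one_iff, Ideal.height_eq_zero_iff_eq_bot] at h1
      exact ne_of_lt hz1 (PrimeSpectrum.ext h1.symm)
  rw [← Hironaka.coheight_eq_add_one (LocCohLib.isCatenary_of_isUniversallyCatenary hU) hbot]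
  exact ((dim_quotient_eq_coheight bD).symm.trans (ringKrullDim_eq_of_ringEquiv (RingEquiv.quotientBot D))).symm

/-- The inductive step. -/
theorem strictlyEquidim_step (hU : CAlg.IsUniversallyCatenary D) (hD : EGA4.HeightOneHullFinite D)
    (ih : ∀ P : Ideal D, [P.IsPrime] → P.height = 1 → EGA4.IsStrictlyEquidim (EGA4.Cpl (D ⧸ P))) :
    EGA4.IsStrictlyEquidim (EGA4.Cpl D) := by
  haveI := CplLocH7.isNoetherianRing_cpl D
  haveI := CplLocH7.faithfullyFlat_cpl D
  intro r hr
  haveI := hr.isPrime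
  have hdimB : ringKrullDim (EGA4.Cpl D) = ringKrullDim D := Compl.ringKrullDim_maximalIdeal_adicCompletion D
  refine le_antisymm (ringKrullDim_quotient_le r) ?_
  by_cases hfield : maximalIdeal D = ⊥
  · haveI : Nontrivial (EGA4.Cpl D ⧸ r) := Ideal.Quotient.nontrivial_iff.2 hr.isPrime.ne_top
    rw [hdimB, ringKrullDim_eq_zero_of_isField (IsLocalRing.isField_iff_maximalIdeal_eq.2 hfield)]
    exact ringKrullDim_nonneg_of_nontrivial
  obtain ⟨a, ham, ha0⟩ := Submodule.exists_mem_ne_zero_of_ne_bot hfield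
  have hrbot : r.comap (algebraMap D (EGA4.Cpl D)) = ⊥ := comap_ass_eq_bot ⟨r, inferInstance⟩ hr
  have har : algebraMap D (EGA4.Cpl D) a ∉ r := fun h => ha0 (by
    have : a ∈ r.comap (algebraMap D (EGA4.Cpl D)) := h
    rwa [hrbot, Ideal.mem_bot] at this)
  have hsup : r ⊔ Ideal.span {algebraMap D (EGA4.Cpl D) a} ≤ maximalIdeal (EGA4.Cpl D) := by
    refine sup_le (IsLocalRing.le_maximalIdeal hr.isPrime.ne_top) ((Ideal.span_singleton_le_iff_mem _).2 ?_)
    rw [CplLocH7.maximalIdeal_cpl]
    exact Ideal.mem_map_of_mem _ ham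
  obtain ⟨Q, hQmin, -⟩ := Ideal.exists_minimalPrimes_le hsup
  haveI := hQmin.isPrime
  have hrQ : r ≤ Q := le_sup_left.trans hQmin.1.2
  have haQ : algebraMap D (EGA4.Cpl D) a ∈ Q := hQmin.1.2 (Ideal.mem_sup_right (Ideal.mem_span_singleton_self _))
  have hQr := height_map_le_one r Q _ hQmin
  have hP0 : Q.comap (algebraMap D (EGA4.Cpl D)) ≠ ⊥ := fun h => ha0 (by
    have : a ∈ Q.comap (algebraMap D (EGA4.Cpl D)) := haQ
    rwa [h, Ideal.mem_bot] at this)
  have hP1 : (Q.comap (algebraMap D (EGA4.Cpl D))).height = 1 := by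
    refine le_antisymm (Order.le_of_lt_add_one (not_le.1 fun h2 => ?_)) (Order.one_le_iff_ne_zero.2 fun h0 => hP0 ?_)
    · have h3 := ((heightOneHullFinite_iff_cpl D).1 hD r hr Q hrQ (le_trans (by norm_num) h2)).trans hQr
      exact absurd h3 (by decide)
    · exact Ideal.height_eq_zero_iff_eq_bot.1 h0
  have hdL : LocCoh.depth (Localization.AtPrime Q) (Localization.AtPrime Q) ≤ 1 := by
    haveI : IsNoetherianRing (Localization.AtPrime Q) := IsLocalization.isNoetherianRing Q.primeCompl _ inferInstance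
    have hdisj : Disjoint (Q.primeCompl : Set (EGA4.Cpl D)) r := Set.disjoint_left.2 fun z hz hzr => hz (hrQ hzr)
    haveI : (r.map (algebraMap (EGA4.Cpl D) (Localization.AtPrime Q))).IsPrime :=
      IsLocalization.isPrime_of_isPrime_disjoint Q.primeCompl _ r inferInstance hdisj
    have hrL : r.map (algebraMap (EGA4.Cpl D) (Localization.AtPrime Q)) ∈
        associatedPrimes (Localization.AtPrime Q) (Localization.AtPrime Q) := by
      rw [← Module.associatedPrimes.preimage_comap_associatedPrimes_eq_associatedPrimes_of_isLocalizedModule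
        Q.primeCompl (R' := Localization.AtPrime Q) (f := Algebra.linearMap (EGA4.Cpl D) (Localization.AtPrime Q))]
      show Ideal.comap (algebraMap (EGA4.Cpl D) (Localization.AtPrime Q)) _ ∈ associatedPrimes (EGA4.Cpl D) (EGA4.Cpl D)
      have he : Ideal.comap (algebraMap (EGA4.Cpl D) (Localization.AtPrime Q))
          (r.map (algebraMap (EGA4.Cpl D) (Localization.AtPrime Q))) = r :=
        IsLocalization.under_map_of_isPrime_disjoint Q.primeCompl (Localization.AtPrime Q) hr.isPrime hdisj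
      rw [he]
      exact hr
    refine WithBot.coe_le_coe.1 ((DepthLib.depth_le_of_mem_associatedPrimes hrL).trans ?_)
    refine (LocCohLib.ringKrullDim_quotient_eq_height
      ⟨r.map (algebraMap (EGA4.Cpl D) (Localization.AtPrime Q)), inferInstance⟩).trans_le ?_
    exact WithBot.coe_le_coe.2 ((height_map_localization_le Q r hrQ).trans hQr)
  have hs : Function.Surjective (algebraMap D (D ⧸ Q.comap (algebraMap D (EGA4.Cpl D)))) := Ideal.Quotient.mk_surjective
  haveI : IsNoetherianRing (EGA4.Cpl (D ⧸ Q.comap (algebraMap D (EGA4.Cpl D)))) := CplLocH7.isNoetherianRing_cpl _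
  have hker : RingHom.ker (FlatDepth.cplQuotHom D (D ⧸ Q.comap (algebraMap D (EGA4.Cpl D))) hs) =
      (Q.comap (algebraMap D (EGA4.Cpl D))).map (algebraMap D (EGA4.Cpl D)) := by
    rw [FlatDepth.ker_cplQuotHom D _ hs]
    congr 1
    exact Ideal.mk_ker
  obtain ⟨hQ', e1⟩ := map_mem_associatedPrimes _ (FlatDepth.cplQuotHom_surjective D _ hs) Q
    (by rw [hker]; exact mem_ass_fibre Q hP0 hdL)
  have hdQ := (e1.symm.trans (ih _ hP1 _ hQ')).trans (Compl.ringKrullDim_maximalIdeal_adicCompletion _)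
  let x : PrimeSpectrum (EGA4.Cpl D) := ⟨r, inferInstance⟩
  let y : PrimeSpectrum (EGA4.Cpl D) := ⟨Q, inferInstance⟩
  let P : PrimeSpectrum D := PrimeSpectrum.comap (algebraMap D (EGA4.Cpl D)) y
  have hdQ' : Order.coheight y = Order.coheight P :=
    WithBot.coe_injective ((dim_quotient_eq_coheight y).symm.trans (hdQ.trans (dim_quotient_eq_coheight P)))
  rw [hdimB, coheight_bot_eq_add_one hU P hP1, ← hdQ']
  refine le_of_le_of_eq (WithBot.coe_le_coe.2 ?_) (dim_quotient_eq_coheight x).symm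
  exact Order.coheight_add_one_le (lt_of_le_of_ne hrQ fun h => har (by
    have h' : r = Q := congrArg PrimeSpectrum.asIdeal h
    rw [h']; exact haQ))

end Domain

theorem strictlyEquidim_of_hulls : ∀ (d : ℕ) (D : Type u) [CommRing D] [IsNoetherianRing D] [IsLocalRing D] [IsDomain D],
    CAlg.IsUniversallyCatenary D → (∀ (P : Ideal D) [P.IsPrime], EGA4.HeightOneHullFinite (D ⧸ P)) →
      ringKrullDim D ≤ (d : WithBot ℕ∞) → EGA4.IsStrictlyEquidim (EGA4.Cpl D) := by
  intro d
  induction d using Nat.strong_induction_on with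
  | _ d ih =>
    intro D _ _ _ _ hU hh hd
    refine strictlyEquidim_step hU (Hironaka.heightOneHull_transfer (RingEquiv.quotientBot D).symm (hh ⊥)) fun P _ hP => ?_
    have h1 := dim_add_height_le (⟨P, inferInstance⟩ : PrimeSpectrum D)
    obtain ⟨e, he⟩ := DepthLib.exists_ringKrullDim_quotient_eq_natCast P (Ideal.IsPrime.ne_top inferInstance)
    rw [he, hP] at h1
    have h2 : ((e + 1 : ℕ) : WithBot ℕ∞) ≤ (d : WithBot ℕ∞) := by
      refine le_trans ?_ (h1.trans hd)
      push_cast
      exact le_rfl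
    refine ih e (by exact_mod_cast h2) (D ⧸ P)
      (UCat.isUniversallyCatenary_of_surjective (Ideal.Quotient.mk P) Ideal.Quotient.mk_surjective hU)
      (fun P' _ => ?_) he.le
    have hle : P ≤ P'.comap (Ideal.Quotient.mk P) := Ideal.mk_ker.ge.trans (Ideal.ker_le_comap _)
    exact Hironaka.heightOneHull_transfer ((Ideal.quotEquivOfEq
      (Ideal.map_comap_of_surjective _ Ideal.Quotient.mk_surjective P').symm).trans
        (DoubleQuot.quotQuotEquivQuotOfLE hle)) (hh (P'.comap (Ideal.Quotient.mk P)))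

theorem isFormallyStrictlyCatenary_iff (A : Type u) [CommRing A] [IsNoetherianRing A] [IsLocalRing A] :
    EGA4.IsFormallyStrictlyCatenary A ↔
      (CAlg.IsUniversallyCatenary A ∧ ∀ (p : Ideal A) [p.IsPrime], EGA4.HeightOneHullFinite (A ⧸ p)) := by
  constructor
  · intro h
    refine ⟨UCat.isUniversallyCatenary_of_formallyCatenary A fun p _ => ?_,
      fun p _ => hull_of_strictlyEquidim (h p)⟩
    haveI : IsNoetherianRing (EGA4.Cpl (A ⧸ p)) := CplLocH7.isNoetherianRing_cpl (A ⧸ p)
    intro q hq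
    refine h p q (Module.associatedPrimes.minimalPrimes_annihilator_subset_associatedPrimes _ _ ?_)
    rw [Module.annihilator_eq_bot.2 inferInstance]
    exact hq
  · rintro ⟨hU, hh⟩ p _
    haveI : Nontrivial (A ⧸ p) := Ideal.Quotient.nontrivial_iff.2 (Ideal.IsPrime.ne_top inferInstance)
    obtain ⟨d, hd⟩ := DepthLib.exists_ringKrullDim_quotient_eq_natCast p (Ideal.IsPrime.ne_top inferInstance)
    refine strictlyEquidim_of_hulls d (A ⧸ p)
      (UCat.isUniversallyCatenary_of_surjective (Ideal.Quotient.mk p) Ideal.Quotient.mk_surjective hU)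
      (fun P' _ => ?_) hd.le
    have hle : p ≤ P'.comap (Ideal.Quotient.mk p) := Ideal.mk_ker.ge.trans (Ideal.ker_le_comap _)
    exact Hironaka.heightOneHull_transfer ((Ideal.quotEquivOfEq
      (Ideal.map_comap_of_surjective _ Ideal.Quotient.mk_surjective P').symm).trans
        (DoubleQuot.quotQuotEquivQuotOfLE hle)) (hh (P'.comap (Ideal.Quotient.mk p)))

end Groth.Agent.FSC5
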